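import Cfsg.Agent.InvOddG2.Pair
import Cfsg.Agent.Chevalley.RankOne
import Cfsg.Agent.ChevG2.Relations

/-!
# The two orthogonal root copies of `SL₂` in `G₂`
-/

set_option autoImplicit false

namespace CfsgLib.InvOddG2

open Cfsg.Lie CfsgLib.Chevalley
open CfsgLib.Chevalley.RankOneRel (uMat vMat wMat uMat_val vMat_val wMat_val closure_eq_top)
open scoped MatrixGroups

variable {D : ChevalleyDatum} {F : Type*} [Field F]

theorem wMat_eq : wMat F = uMat F 1 * vMat F (-1) * uMat F 1 := by
  apply Subtype.ext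
  apply Matrix.ext
  intro p q
  fin_cases p <;> fin_cases q <;>
    simp [uMat_val, vMat_val, wMat_val, Matrix.mul_apply, Fin.sum_univ_two]

theorem neg_one_eq : (-1 : Matrix.SpecialLinearGroup (Fin 2) F) =
    uMat F (-1) * vMat F 1 * uMat F (-1) * (uMat F (-1) * vMat F 1 * uMat F (-1)) := by
  apply Subtype.ext
  apply Matrix.ext
  intro p q
  fin_cases p <;> fin_cases q <;>
    simp [uMat_val, vMat_val, Matrix.mul_apply, Fin.sum_univ_two]

/-- The element `[[0, -1/c], [c, 0]]`. -/
def nMat (c : F) (hc : c ≠ 0) : Matrix.SpecialLinearGroup (Fin 2) F :=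
  ⟨!![0, -1 / c; c, 0], by rw [Matrix.det_fin_two_of]; field_simp; ring⟩

theorem nMat_val (c : F) (hc : c ≠ 0) : (nMat c hc).1 = !![0, -1 / c; c, 0] := rfl

/-- All matrices send into `S` when the two unipotent subgroups do. -/
theorem forall_mem {G : Type*} [Group G] (φ : Matrix.SpecialLinearGroup (Fin 2) F →* G) {S : Subgroup G}
    (hu : ∀ t, φ (uMat F t) ∈ S) (hv : ∀ t, φ (vMat F t) ∈ S) :
    ∀ g, φ g ∈ S := by
  intro g
  have h : Submonoid.closure (Set.range (uMat F) ∪ {wMat F}) ≤ S.toSubmonoid.comap φ :=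
    Submonoid.closure_le.2 (by
      rintro x (⟨t, rfl⟩ | hx)
      · exact hu t
      · rw [Set.mem_singleton_iff.1 hx, wMat_eq]
        show φ _ ∈ S
        rw [map_mul, map_mul]
        exact mul_mem (mul_mem (hu _) (hv _)) (hu _))
  exact h (closure_eq_top (F := F) ▸ Submonoid.mem_top g)

variable (hW : GoodWeyl D) {r : Root D} {φ : Matrix.SpecialLinearGroup (Fin 2) F →* GL D.Idx F}
  (h1 : ∀ t, φ (uMat F t) = X hW.good r t) (h2 : ∀ t, φ (vMat F t) = X hW.good r.rev t)
include h1 h2

theorem map_neg_one : φ (-1) = hT F r (-1) := by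
  rw [← hElt_eq hW r (-1), neg_one_eq, map_mul, map_mul, map_mul, h1, h2, nElt]
  simp

theorem injective_of_ne (hne : hT F r (-1) ≠ 1) (h2ne : (2 : F) ≠ 0) : Function.Injective φ := by
  refine (injective_iff_map_eq_one φ).2 fun g hg => ?_
  have hdet := g.2
  rw [Matrix.det_fin_two] at hdet
  have key : ∀ x y, g * x * g⁻¹ = y → φ x = φ y := fun x y e => by
    rw [← e, map_mul, map_mul, map_inv, hg]; simp
  by_cases hc : g.1 1 0 = 0
  · rw [hc, mul_zero, sub_zero] at hdet
    have e1 : g * uMat F 1 * g⁻¹ = uMat F (g.1 0 0 * g.1 0 0) := by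
      rw [mul_inv_eq_iff_eq_mul]
      apply Subtype.ext
      apply Matrix.ext
      intro p q
      fin_cases p <;> fin_cases q <;>
        simp [uMat_val, Matrix.mul_apply, Fin.sum_univ_two, hc]
      linear_combination (-(g.1 0 0)) * hdet
    have e := key _ _ e1
    rw [h1, h1] at e
    have ha : g.1 0 0 * g.1 0 0 = 1 := (X_injective hW.good r e).symm
    have hd : g.1 1 1 = g.1 0 0 := by
      linear_combination (g.1 0 0) * hdet - (g.1 1 1) * ha
    have e2 : g * g = uMat F (2 * g.1 0 0 * g.1 0 1) := by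
      apply Subtype.ext
      apply Matrix.ext
      intro p q
      fin_cases p <;> fin_cases q <;>
        simp [uMat_val, Matrix.mul_apply, Fin.sum_univ_two, hc, hd, ha]
      ring
    have e3 := congrArg φ e2
    rw [map_mul, hg, mul_one, h1] at e3
    have hb0 : (2 * g.1 0 0) * g.1 0 1 = 0 := X_injective hW.good r (by
      show X hW.good r _ = X hW.good r 0
      rw [← e3, X_zero])
    have hb : g.1 0 1 = 0 := (mul_eq_zero.1 hb0).resolve_left
      (mul_ne_zero h2ne fun e => by simp [e] at ha)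
    rcases mul_self_eq_one_iff.1 ha with h | h
    · apply Subtype.ext
      apply Matrix.ext
      intro p q
      fin_cases p <;> fin_cases q <;> simp [h, hd, hb, hc]
    · exfalso
      refine hne ?_
      rw [← map_neg_one hW h1 h2, ← hg]
      congr 1
      apply Subtype.ext
      apply Matrix.ext
      intro p q
      fin_cases p <;> fin_cases q <;> simp [h, hd, hb, hc]
  · exfalso
    have hn : ∃ n, g = uMat F (g.1 0 0 / g.1 1 0) * n * uMat F (g.1 1 1 / g.1 1 0) ∧
        n * uMat F 1 = vMat F (-(g.1 1 0 * g.1 1 0)) * n := by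
      refine ⟨nMat (g.1 1 0) hc, ?_, ?_⟩
      · apply Subtype.ext
        apply Matrix.ext
        intro p q
        fin_cases p <;> fin_cases q <;>
          simp [uMat_val, nMat_val, Matrix.mul_apply, Fin.sum_univ_two] <;> field_simp
        linear_combination -hdet
      · apply Subtype.ext
        apply Matrix.ext
        intro p q
        fin_cases p <;> fin_cases q <;>
          simp [uMat_val, vMat_val, nMat_val, Matrix.mul_apply, Fin.sum_univ_two]
        field_simp
    obtain ⟨n, hgn, hnu⟩ := hn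
    have hn1 : φ n = X hW.good r (-(g.1 0 0 / g.1 1 0) + -(g.1 1 1 / g.1 1 0)) := by
      rw [← X_mul, ← X_inv, ← X_inv, ← h1, ← h1, ← mul_inv_rev]
      have e := congrArg φ hgn
      rw [hg, map_mul, map_mul] at e
      calc φ n = (φ (uMat F (g.1 0 0 / g.1 1 0)))⁻¹ * (φ (uMat F (g.1 0 0 / g.1 1 0)) * φ n *
            φ (uMat F (g.1 1 1 / g.1 1 0))) * (φ (uMat F (g.1 1 1 / g.1 1 0)))⁻¹ := by group
        _ = _ := by rw [← e]; group
    have e2 := congrArg φ hnu
    rw [map_mul, map_mul, h2, hn1, h1, X_mul, add_comm, ← X_mul] at e2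
    exact X_ne hW.toGoodUni (hW.good.rev_ne r).symm one_ne_zero _ (mul_right_cancel e2)

theorem forall_mem_group (g : Matrix.SpecialLinearGroup (Fin 2) F) : φ g ∈ D.group F :=
  forall_mem φ (fun t => h1 t ▸ X_mem_group _ _ _) (fun t => h2 t ▸ X_mem_group _ _ _) g

omit h1 h2

/-- Orthogonal roots whose sum and difference are not roots. -/
def chkOrth (D : ChevalleyDatum) (a b : Root D) : Bool :=
  [a, a.rev].all fun x => [b, b.rev].all fun y =>
    decide (y ≠ x) && decide (y ≠ x.rev) && (D.commTerms x y).isEmpty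

theorem commute_images {a b : Root D} (hab : chkOrth D a b = true)
    {φ ψ : Matrix.SpecialLinearGroup (Fin 2) F →* GL D.Idx F}
    (a1 : ∀ t, φ (uMat F t) = X hW.good a t) (a2 : ∀ t, φ (vMat F t) = X hW.good a.rev t)
    (b1 : ∀ t, ψ (uMat F t) = X hW.good b t) (b2 : ∀ t, ψ (vMat F t) = X hW.good b.rev t)
    (g h : Matrix.SpecialLinearGroup (Fin 2) F) : φ g * ψ h = ψ h * φ g := by
  simp only [chkOrth, List.all_cons, List.all_nil, Bool.and_true, Bool.and_eq_true,
    decide_eq_true_eq, List.isEmpty_iff] at hab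
  have base : ∀ x y : Root D, (y ≠ x ∧ y ≠ x.rev) ∧ D.commTerms x y = [] → ∀ t u : F,
      X hW.good y u * X hW.good x t = X hW.good x t * X hW.good y u := by
    rintro x y ⟨⟨h1, h2⟩, h3⟩ t u
    have := X_comm hW.toGoodComm x y h1 h2 t u
    rw [this, commRhs, h3]
    simp [wordGL]
  obtain ⟨⟨p1, p2⟩, p3, p4⟩ := hab
  have ha : ∀ g, ∀ y u, (∀ t, X hW.good y u * X hW.good a t = X hW.good a t * X hW.good y u) →
      (∀ t, X hW.good y u * X hW.good a.rev t = X hW.good a.rev t * X hW.good y u) →
      φ g ∈ Subgroup.centralizer ({X hW.good y u} : Set (GL D.Idx F)) := fun g y u q1 q2 =>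
    forall_mem φ (fun t => Subgroup.mem_centralizer_singleton_iff.2 (by rw [a1]; exact (q1 t).symm))
      (fun t => Subgroup.mem_centralizer_singleton_iff.2 (by rw [a2]; exact (q2 t).symm)) g
  have hb : ψ h ∈ Subgroup.centralizer ({φ g} : Set (GL D.Idx F)) :=
    forall_mem ψ
      (fun t => Subgroup.mem_centralizer_singleton_iff.2 (by
        rw [b1]
        exact (Subgroup.mem_centralizer_singleton_iff.1
          (ha g b t (fun s => base _ _ p1 s t) (fun s => base _ _ p3 s t))).symm))
      (fun t => Subgroup.mem_centralizer_singleton_iff.2 (by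
        rw [b2]
        exact (Subgroup.mem_centralizer_singleton_iff.1
          (ha g b.rev t (fun s => base _ _ p2 s t) (fun s => base _ _ p4 s t))).symm)) h
  exact (Subgroup.mem_centralizer_singleton_iff.1 hb).symm

end CfsgLib.InvOddG2
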