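import Cfsg.Agent.InvOddG2.Embed

/-!
# The structure of an involution centraliser of `G₂` in odd characteristic
-/

set_option autoImplicit false

namespace CfsgLib.InvOddG2

open Cfsg.Lie CfsgLib.Chevalley
open scoped MatrixGroups

variable {F : Type*} [Field F]

/-- The highest root. -/
def rA : Root chevG2 := ⟨11, by decide⟩

/-- A short root orthogonal to it. -/
def rB : Root chevG2 := ⟨7, by decide⟩

theorem orth_ok : chkOrth chevG2 rA rB = true := by decide +kernel

theorem parity_ok : (∀ s : Root chevG2, Even (chevG2.pairing rA s - chevG2.pairing rB s)) ∧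
    ∃ s : Root chevG2, Odd (chevG2.pairing rA s) := by
  simp only [Int.even_iff, Int.odd_iff]
  decide +kernel

theorem hT_B : hT F rB (-1) = hT F rA (-1) := by
  rw [hT, hT]
  congr 1
  funext s
  obtain ⟨k, hk⟩ := parity_ok.1 s
  rw [show chevG2.pairing rA s = chevG2.pairing rB s + 2 * k by linarith, zpow_add, zpow_mul, zpow_two,
    neg_one_mul, neg_neg, one_zpow, mul_one]

theorem two_ne_zero_of_odd [Fintype F] (hF : Odd (Fintype.card F)) : (2 : F) ≠ 0 := by
  intro h
  haveI : CharP F 2 := CharTwo.of_one_ne_zero_of_two_eq_zero one_ne_zero h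
  obtain ⟨n, hp, hn⟩ := FiniteField.card F 2
  rw [hn] at hF
  exact Nat.not_even_iff_odd.2 hF (Even.pow_of_ne_zero even_two n.ne_zero)

theorem hT_A_ne [Fintype F] (hF : Odd (Fintype.card F)) : hT F rA (-1) ≠ 1 := by
  obtain ⟨s, hs⟩ := parity_ok.2
  rw [hT, ← tor_one]
  intro e
  have h1 := congrArg Units.val (congrFun (tor_injective e) s)
  rw [Units.val_zpow_eq_zpow_val, Units.val_neg, Units.val_one, Odd.neg_one_zpow hs] at h1
  exact two_ne_zero_of_odd hF (by linear_combination -h1)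

/-- The involution `h_r(-1)` of the highest root. -/
def tA (F : Type*) [Field F] : ↥(chevG2.group F) :=
  ⟨hT F rA (-1), diag_le_group ChevG2.hW (hT_mem_diagonal ChevG2.hW _ _)⟩

theorem orderOf_tA [Fintype F] (hF : Odd (Fintype.card F)) : orderOf (tA F) = 2 := by
  refine orderOf_eq_prime ?_ fun e => hT_A_ne hF (congrArg Subtype.val e)
  rw [pow_two]
  exact Subtype.ext (by
    show hT F rA (-1) * hT F rA (-1) = 1
    rw [hT_mul, neg_one_mul, neg_neg, hT_one])

/-- The structure statement for a conjugate of `h_r(-1)`. -/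
theorem exists_pair_conj [Fintype F] (hF : Odd (Fintype.card F)) (g : ↥(chevG2.group F))
    (hcard : Nat.card (Subgroup.centralizer ({g * tA F * g⁻¹} : Set ↥(chevG2.group F))) =
      Fintype.card F ^ 2 * (Fintype.card F ^ 2 - 1) ^ 2) :
    ∃ L₁ L₂ : Subgroup ↥(chevG2.group F),
      Nonempty (L₁ ≃* Matrix.SpecialLinearGroup (Fin 2) F) ∧
      Nonempty (L₂ ≃* Matrix.SpecialLinearGroup (Fin 2) F) ∧ (∀ x ∈ L₁, ∀ y ∈ L₂, x * y = y * x) ∧
      L₁ ⊓ L₂ = Subgroup.zpowers (g * tA F * g⁻¹) ∧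
      L₁ ⊔ L₂ ≤ Subgroup.centralizer ({g * tA F * g⁻¹} : Set ↥(chevG2.group F)) ∧
      (L₁ ⊔ L₂).relIndex (Subgroup.centralizer ({g * tA F * g⁻¹} : Set ↥(chevG2.group F))) = 2 := by
  obtain ⟨φ, a1, a2⟩ := exists_sl2Hom (F := F) ChevG2.hW rA
  obtain ⟨ψ, b1, b2⟩ := exists_sl2Hom (F := F) ChevG2.hW rB
  let φ' := (MulAut.conj g).toMonoidHom.comp (φ.codRestrict _ (forall_mem_group ChevG2.hW a1 a2))
  let ψ' := (MulAut.conj g).toMonoidHom.comp (ψ.codRestrict _ (forall_mem_group ChevG2.hW b1 b2))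
  have hne := hT_A_ne (F := F) hF
  have h2 := two_ne_zero_of_odd hF
  have hord : orderOf (g * tA F * g⁻¹) = 2 :=
    ((MulAut.conj g).orderOf_eq (tA F)).trans (orderOf_tA hF)
  refine exists_pair (F := F) _ hord φ' ψ' ?_ ?_ ?_ ?_ ?_ hcard
  · exact (MulAut.conj g).injective.comp fun x y e =>
      injective_of_ne ChevG2.hW a1 a2 hne h2 (congrArg Subtype.val e)
  · exact (MulAut.conj g).injective.comp fun x y e =>
      injective_of_ne ChevG2.hW b1 b2 (by rwa [hT_B]) h2 (congrArg Subtype.val e)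
  · intro x y
    show MulAut.conj g _ * MulAut.conj g _ = MulAut.conj g _ * MulAut.conj g _
    rw [← map_mul, ← map_mul]
    congr 1
    exact Subtype.ext (commute_images ChevG2.hW orth_ok a1 a2 b1 b2 x y)
  · show MulAut.conj g _ = g * tA F * g⁻¹
    rw [MulAut.conj_apply]
    congr 2
    exact Subtype.ext (map_neg_one ChevG2.hW a1 a2)
  · show MulAut.conj g _ = g * tA F * g⁻¹
    rw [MulAut.conj_apply]
    congr 2
    exact Subtype.ext ((map_neg_one ChevG2.hW b1 b2).trans hT_B)

end CfsgLib.InvOddG2
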