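import Cfsg.Agent.InvOddG2.Orbits
import Cfsg.Agent.InvOddG2.G2

/-!
# From "every involution is conjugate into the torus" to the classes
-/

set_option autoImplicit false

namespace CfsgLib.InvOddG2

open Cfsg.Lie CfsgLib.Chevalley
open scoped MatrixGroups

variable {D : ChevalleyDatum} {F : Type*} [Field F]

/-- A sign element as an element of the group. -/
def sG (hW : GoodWeyl D) (F : Type*) [Field F] (e : List ℕ) : ↥(D.group F) :=
  ⟨sElt D F e, sElt_mem hW e⟩

theorem orderOf_sG (hW : GoodWeyl D) (h2 : (2 : F) ≠ 0) {e : List ℕ} {r : Root D}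
    (hr : sExp D e r = 1) : orderOf (sG hW F e) = 2 := by
  refine orderOf_eq_prime ?_ fun h => sElt_ne_one h2 hr (congrArg Subtype.val h)
  rw [pow_two]
  exact Subtype.ext (sElt_sq e)

theorem sq_of_orderOf {u : ↥(D.group F)} (hu : orderOf u = 2) :
    (u : GL D.Idx F) * u = 1 ∧ (u : GL D.Idx F) ≠ 1 := by
  refine ⟨?_, fun e => ?_⟩
  · have := pow_orderOf_eq_one u
    rw [hu, pow_two] at this
    exact congrArg Subtype.val this
  · rw [show u = 1 from Subtype.ext e, orderOf_one] at hu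
    omega

/-- An involution is conjugate to a representative of a checked table. -/
theorem isConj_rep [Fintype F] (hW : GoodWeyl D) (hinj : Function.Injective (torHom D F))
    {tab : List (List ℕ × List ℕ × List ℕ)} (htab : chkOrbits D tab = true)
    (hdiag : ∀ u ∈ D.group F, u * u = 1 → ∃ g ∈ D.group F, g * u * g⁻¹ ∈ D.diagonalSubgroup F)
    {u : ↥(D.group F)} (hu : orderOf u = 2) :
    ∃ p ∈ tab, IsConj u (sG hW F p.2.2) ∧ sG hW F p.2.2 ≠ 1 := by
  obtain ⟨h2, hne⟩ := sq_of_orderOf hu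
  obtain ⟨g, hg, hd⟩ := hdiag u u.2 h2
  have hs : g * (u : GL D.Idx F) * g⁻¹ * (g * u * g⁻¹) = 1 := by
    rw [show g * (u : GL D.Idx F) * g⁻¹ * (g * u * g⁻¹) = g * ((u : GL D.Idx F) * u) * g⁻¹ by group, h2]
    group
  obtain ⟨k, hk, p, hp, e⟩ := exists_conj_rep_of_diag hW hinj htab hd hs
  have hc : IsConj u (sG hW F p.2.2) := isConj_iff.2 ⟨⟨k * g, mul_mem hk hg⟩, Subtype.ext (by
    show k * g * (u : GL D.Idx F) * (k * g)⁻¹ = sElt D F p.2.2
    rw [← e]; group)⟩
  refine ⟨p, hp, hc, fun h1 => ?_⟩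
  rw [h1, isConj_one_left] at hc
  exact hne (congrArg Subtype.val hc)

theorem natCard_centralizer_coe (t : ↥(D.group F)) :
    Nat.card (Subgroup.centralizer ({t} : Set ↥(D.group F))) =
      Nat.card ↥(D.group F ⊓ Subgroup.centralizer ({(t : GL D.Idx F)} : Set (GL D.Idx F))) := by
  refine Nat.card_congr
    { toFun := fun x => ⟨x.1.1, x.1.2, Subgroup.mem_centralizer_singleton_iff.2
        (congrArg Subtype.val (Subgroup.mem_centralizer_singleton_iff.1 x.2))⟩
      invFun := fun x => ⟨⟨x.1, x.2.1⟩, Subgroup.mem_centralizer_singleton_iff.2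
        (Subtype.ext (Subgroup.mem_centralizer_singleton_iff.1 x.2.2))⟩
      left_inv := fun x => rfl
      right_inv := fun x => rfl }

theorem natCard_centralizer_conj {G : Type*} [Group G] {s t : G} (h : IsConj s t) :
    Nat.card (Subgroup.centralizer ({s} : Set G)) = Nat.card (Subgroup.centralizer ({t} : Set G)) := by
  obtain ⟨g, rfl⟩ := isConj_iff.1 h
  refine Nat.card_congr ((MulAut.conj g).toEquiv.subtypeEquiv fun x => ?_)
  simp only [Subgroup.mem_centralizer_singleton_iff, MulEquiv.toEquiv_eq_coe, MulEquiv.coe_toEquiv,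
    MulAut.conj_apply]
  constructor
  · intro h
    calc g * x * g⁻¹ * (g * s * g⁻¹) = g * (x * s) * g⁻¹ := by group
      _ = g * s * g⁻¹ * (g * x * g⁻¹) := by rw [h]; group
  · intro h
    calc x * s = g⁻¹ * (g * x * g⁻¹ * (g * s * g⁻¹)) * g := by group
      _ = s * x := by rw [h]; group

section G2

variable [Fintype F]

theorem tabG2_rep : ∀ p ∈ orbitsG2, p.2.2 = [0, 0] ∨ p.2.2 = [0, 1] := by decide +kernel

theorem sG_G2_zero : sG ChevG2.hW F [0, 0] = 1 := by
  refine Subtype.ext ?_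
  show sElt chevG2 F [0, 0] = 1
  rw [sElt_eq, ← tor_one]
  congr 1
  funext s
  rw [show sExp chevG2 [0, 0] s = 0 by revert s; decide +kernel, zpow_zero]

/-- Every involution of `G₂` is conjugate to the representative. -/
theorem isConj_G2
    (hdiag : ∀ u ∈ chevG2.group F, u * u = 1 → ∃ g ∈ chevG2.group F, g * u * g⁻¹ ∈ chevG2.diagonalSubgroup F)
    {u : ↥(chevG2.group F)} (hu : orderOf u = 2) : IsConj u (sG ChevG2.hW F [0, 1]) := by
  obtain ⟨p, hp, hc, hne⟩ := isConj_rep ChevG2.hW torHom_injective_G2 orbitsG2_ok hdiag hu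
  rcases tabG2_rep p hp with e | e
  · exact absurd (e ▸ sG_G2_zero) hne
  · rwa [← e]

/-- The structure of every involution centraliser of `G₂`. -/
theorem exists_pair_of_diag (hF : Odd (Fintype.card F))
    (hdiag : ∀ u ∈ chevG2.group F, u * u = 1 → ∃ g ∈ chevG2.group F, g * u * g⁻¹ ∈ chevG2.diagonalSubgroup F)
    (hcard : Nat.card ↥(chevG2.group F ⊓
        Subgroup.centralizer ({sElt chevG2 F [0, 1]} : Set (GL chevG2.Idx F))) =
      Fintype.card F ^ 2 * (Fintype.card F ^ 2 - 1) ^ 2)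
    (t : ↥(chevG2.group F)) (ht : orderOf t = 2) :
    Nat.card (Subgroup.centralizer ({t} : Set ↥(chevG2.group F))) =
        Fintype.card F ^ 2 * (Fintype.card F ^ 2 - 1) ^ 2 ∧
    ∃ L₁ L₂ : Subgroup ↥(chevG2.group F),
      Nonempty (L₁ ≃* Matrix.SpecialLinearGroup (Fin 2) F) ∧
      Nonempty (L₂ ≃* Matrix.SpecialLinearGroup (Fin 2) F) ∧ (∀ x ∈ L₁, ∀ y ∈ L₂, x * y = y * x) ∧
      L₁ ⊓ L₂ = Subgroup.zpowers t ∧
      L₁ ⊔ L₂ ≤ Subgroup.centralizer ({t} : Set ↥(chevG2.group F)) ∧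
      (L₁ ⊔ L₂).relIndex (Subgroup.centralizer ({t} : Set ↥(chevG2.group F))) = 2 := by
  have hc := isConj_G2 hdiag ht
  have hcA := (isConj_G2 hdiag (orderOf_tA hF)).trans hc.symm
  have hn : Nat.card (Subgroup.centralizer ({t} : Set ↥(chevG2.group F))) =
      Fintype.card F ^ 2 * (Fintype.card F ^ 2 - 1) ^ 2 := by
    rw [natCard_centralizer_conj hc, natCard_centralizer_coe, ← hcard]
    rfl
  obtain ⟨g, rfl⟩ := isConj_iff.1 hcA
  exact ⟨hn, exists_pair_conj hF g hn⟩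

end G2

section F4

variable [Fintype F]

theorem hW4 : GoodWeyl chevF4 := goodWeyl_of_mem (by simp)

theorem tabF4_rep : ∀ p ∈ orbitsF4,
    p.2.2 = [0, 0, 0, 0] ∨ p.2.2 = [0, 1, 0, 0] ∨ p.2.2 = [0, 0, 0, 1] := by decide +kernel

theorem sG_F4_zero : sG hW4 F [0, 0, 0, 0] = 1 := by
  refine Subtype.ext ?_
  show sElt chevF4 F [0, 0, 0, 0] = 1
  rw [sElt_eq, ← tor_one]
  congr 1
  funext s
  rw [show sExp chevF4 [0, 0, 0, 0] s = 0 by revert s; decide +kernel, zpow_zero]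

/-- The two classes of involutions of `F₄`. -/
theorem exists_two_classes (hF : Odd (Fintype.card F))
    (hdiag : ∀ u ∈ chevF4.group F, u * u = 1 → ∃ g ∈ chevF4.group F, g * u * g⁻¹ ∈ chevF4.diagonalSubgroup F)
    {A B : ℕ} (hAB : A ≠ B)
    (hA : Nat.card ↥(chevF4.group F ⊓
      Subgroup.centralizer ({sElt chevF4 F [0, 1, 0, 0]} : Set (GL chevF4.Idx F))) = A)
    (hB : Nat.card ↥(chevF4.group F ⊓
      Subgroup.centralizer ({sElt chevF4 F [0, 0, 0, 1]} : Set (GL chevF4.Idx F))) = B) :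
    ∃ s t : ↥(chevF4.group F), orderOf s = 2 ∧ orderOf t = 2 ∧ ¬ IsConj s t ∧
      (∀ u : ↥(chevF4.group F), orderOf u = 2 → IsConj u s ∨ IsConj u t) ∧
      Nat.card (Subgroup.centralizer ({s} : Set ↥(chevF4.group F))) = A ∧
      Nat.card (Subgroup.centralizer ({t} : Set ↥(chevF4.group F))) = B := by
  have h2 := two_ne_zero_of_odd hF
  obtain ⟨-, -, -, ⟨r, hr, er⟩, ⟨r', hr', er'⟩⟩ := rep_data
  have hcA : Nat.card (Subgroup.centralizer ({sG hW4 F [0, 1, 0, 0]} : Set ↥(chevF4.group F))) = A :=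
    (natCard_centralizer_coe _).trans hA
  have hcB : Nat.card (Subgroup.centralizer ({sG hW4 F [0, 0, 0, 1]} : Set ↥(chevF4.group F))) = B :=
    (natCard_centralizer_coe _).trans hB
  refine ⟨sG hW4 F [0, 1, 0, 0], sG hW4 F [0, 0, 0, 1], orderOf_sG hW4 h2 (r := ⟨r, hr⟩) er,
    orderOf_sG hW4 h2 (r := ⟨r', hr'⟩) er',
    fun hc => hAB (hcA.symm.trans ((natCard_centralizer_conj hc).trans hcB)), fun u hu => ?_, hcA, hcB⟩
  obtain ⟨p, hp, hc, hne⟩ := isConj_rep hW4 torHom_injective_F4 orbitsF4_ok hdiag hu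
  rcases tabF4_rep p hp with e | e | e
  · exact absurd (e ▸ sG_F4_zero) hne
  · exact Or.inl (e ▸ hc)
  · exact Or.inr (e ▸ hc)

end F4

end CfsgLib.InvOddG2
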