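import Cfsg.Agent.InvOddG2.TorusSign
import Cfsg.Agent.Chevalley.WeylData

/-!
# The orbits of the sign elements in the tori of `G₂` and `F₄`
-/

set_option autoImplicit false
set_option maxRecDepth 20000

namespace CfsgLib.InvOddG2

open Cfsg.Lie CfsgLib.Chevalley

/-- The sign elements of `G2` with words to the representatives. -/
def orbitsG2 : List (List ℕ × List ℕ × List ℕ) :=
  [([0, 0], [], [0, 0]),
    ([0, 1], [], [0, 1]),
    ([1, 1], [0], [0, 1]),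
    ([1, 0], [0, 1], [0, 1])]

/-- The sign elements of `F4` with words to the representatives. -/
def orbitsF4 : List (List ℕ × List ℕ × List ℕ) :=
  [([0, 0, 0, 0], [], [0, 0, 0, 0]),
    ([0, 1, 0, 0], [], [0, 1, 0, 0]),
    ([1, 1, 0, 0], [0], [0, 1, 0, 0]),
    ([1, 0, 0, 0], [0, 1], [0, 1, 0, 0]),
    ([0, 0, 0, 1], [], [0, 0, 0, 1]),
    ([0, 0, 1, 1], [2], [0, 0, 0, 1]),
    ([0, 1, 1, 1], [2, 1], [0, 0, 0, 1]),
    ([0, 0, 1, 0], [2, 3], [0, 0, 0, 1]),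
    ([1, 1, 1, 1], [2, 1, 0], [0, 0, 0, 1]),
    ([0, 1, 0, 1], [2, 1, 2], [0, 0, 0, 1]),
    ([0, 1, 1, 0], [2, 1, 3], [0, 0, 0, 1]),
    ([1, 1, 0, 1], [2, 1, 0, 2], [0, 0, 0, 1]),
    ([1, 1, 1, 0], [2, 1, 0, 3], [0, 0, 0, 1]),
    ([1, 0, 0, 1], [2, 1, 0, 2, 1], [0, 0, 0, 1]),
    ([1, 0, 1, 1], [2, 1, 0, 2, 1, 2], [0, 0, 0, 1]),
    ([1, 0, 1, 0], [2, 1, 0, 2, 1, 2, 3], [0, 0, 0, 1])]

theorem orbitsG2_ok : chkOrbits chevG2 orbitsG2 = true := by decide +kernel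

theorem orbitsF4_ok : chkOrbits chevF4 orbitsF4 = true := by decide +kernel

variable {F : Type*} [Field F] [Fintype F]

theorem torHom_injective_G2 : Function.Injective (torHom chevG2 F) :=
  torC_injective (goodWeyl_of_mem (by simp))
    (P := (!![0, -1; 1, 2] : Matrix (Fin 2) (Fin 2) ℤ))
    (P' := (!![2, 1; -1, 0] : Matrix (Fin 2) (Fin 2) ℤ))
    (Q := (!![1, 2; 0, 1] : Matrix (Fin 2) (Fin 2) ℤ))
    (Q' := (!![1, -2; 0, 1] : Matrix (Fin 2) (Fin 2) ℤ)) (by decide +kernel)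

theorem torHom_injective_F4 : Function.Injective (torHom chevF4 F) :=
  torC_injective (goodWeyl_of_mem (by simp))
    (P := (!![-1, 0, 0, 0; 1, 0, -1, 0; -2, -1, 0, 0; -2, -2, -2, -1] : Matrix (Fin 4) (Fin 4) ℤ))
    (P' := (!![-1, 0, 0, 0; 2, 0, -1, 0; -1, -1, 0, 0; 0, 2, 2, -1] : Matrix (Fin 4) (Fin 4) ℤ))
    (Q := (!![0, 0, 1, -2; 1, 0, 2, -4; 0, 0, 2, -3; 0, 1, 2, -2] : Matrix (Fin 4) (Fin 4) ℤ))
    (Q' := (!![-2, 1, 0, 0; 2, 0, -2, 1; -3, 0, 2, 0; -2, 0, 1, 0] : Matrix (Fin 4) (Fin 4) ℤ))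
    (by decide +kernel)

/-- The representatives have rich and poor centralisers; they differ from one. -/
theorem rep_data :
    sExp chevG2 [0, 1] 11 = 1 ∧ sExp chevF4 [0, 1, 0, 0] 45 ∈ [0, 1] ∧
    (∃ r < 12, sExp chevG2 [0, 1] r = 1) ∧ (∃ r < 48, sExp chevF4 [0, 1, 0, 0] r = 1) ∧
    (∃ r < 48, sExp chevF4 [0, 0, 0, 1] r = 1) := by
  decide +kernel

end CfsgLib.InvOddG2
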