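import Cfsg.Agent.Linear.Basic
import Mathlib.GroupTheory.Index

/-!
# Two commuting copies of `SL₂` with a common central involution
-/

set_option autoImplicit false

namespace CfsgLib.InvOddG2

open Matrix

variable {F : Type*} [Field F]

/-- An element of `SL₂` commuting with everything is `±1`. -/
theorem eq_one_or_neg_one {z : Matrix.SpecialLinearGroup (Fin 2) F} (hz : ∀ g, g * z = z * g) :
    z = 1 ∨ z = -1 := by
  have hu : !![(1 : F), 1; 0, 1] * z.1 = z.1 * !![1, 1; 0, 1] :=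
    congrArg Subtype.val (hz ⟨!![1, 1; 0, 1], by simp [Matrix.det_fin_two]⟩)
  have hv : !![(1 : F), 0; 1, 1] * z.1 = z.1 * !![1, 0; 1, 1] :=
    congrArg Subtype.val (hz ⟨!![1, 0; 1, 1], by simp [Matrix.det_fin_two]⟩)
  have u00 := congrFun (congrFun hu 0) 0
  have u01 := congrFun (congrFun hu 0) 1
  have v00 := congrFun (congrFun hv 0) 0
  simp [Matrix.mul_apply, Fin.sum_univ_two] at u00 u01 v00
  have hdet := z.2
  rw [Matrix.det_fin_two] at hdet
  have hd : z.1 1 1 = z.1 0 0 := by linear_combination u01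
  rw [u00, mul_zero, sub_zero, hd, mul_self_eq_one_iff] at hdet
  rcases hdet with h | h
  · refine Or.inl (Subtype.ext ?_)
    ext i j
    fin_cases i <;> fin_cases j <;> simp [h, hd, u00, v00]
  · refine Or.inr (Subtype.ext ?_)
    ext i j
    fin_cases i <;> fin_cases j <;> simp [h, hd, u00, v00]

variable {G : Type*} [Group G]

theorem range_inf_range (t : G) (φ ψ : Matrix.SpecialLinearGroup (Fin 2) F →* G)
    (hφ : Function.Injective φ) (hc : ∀ g h, φ g * ψ h = ψ h * φ g) (eφ : φ (-1) = t)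
    (eψ : ψ (-1) = t) : φ.range ⊓ ψ.range = Subgroup.zpowers t := by
  refine le_antisymm ?_ (Subgroup.zpowers_le.2 ⟨⟨_, eφ⟩, ⟨_, eψ⟩⟩)
  rintro _ ⟨⟨g, rfl⟩, ⟨k, hk⟩⟩
  have hz : ∀ x, x * g = g * x := fun x => hφ (by rw [map_mul, map_mul, ← hk, hc])
  rcases eq_one_or_neg_one hz with h | h
  · rw [h, map_one]; exact one_mem _
  · rw [h, eφ]; exact Subgroup.mem_zpowers t

theorem natCard_sup_mul [Finite F] [Finite G] (t : G) (ht : orderOf t = 2)
    (φ ψ : Matrix.SpecialLinearGroup (Fin 2) F →* G) (hφ : Function.Injective φ)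
    (hψ : Function.Injective ψ) (hc : ∀ g h, φ g * ψ h = ψ h * φ g) (eφ : φ (-1) = t)
    (eψ : ψ (-1) = t) :
    Nat.card ↥(φ.range ⊔ ψ.range) * 2 =
      Nat.card (Matrix.SpecialLinearGroup (Fin 2) F) * Nat.card (Matrix.SpecialLinearGroup (Fin 2) F) := by
  let μ : Matrix.SpecialLinearGroup (Fin 2) F × Matrix.SpecialLinearGroup (Fin 2) F →* G :=
    φ.noncommCoprod ψ hc
  have hr : μ.range = φ.range ⊔ ψ.range := MonoidHom.noncommCoprod_range φ ψ hc
  have hk : Nat.card μ.ker = 2 := by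
    refine Eq.trans ?_ ((Nat.card_zpowers t).trans ht)
    rw [← range_inf_range t φ ψ hφ hc eφ eψ]
    refine Nat.card_congr (Equiv.ofBijective (fun p => ⟨φ p.1.1, ⟨p.1.1, rfl⟩, ⟨p.1.2⁻¹, ?_⟩⟩) ⟨?_, ?_⟩)
    · rw [map_inv]
      exact (eq_inv_of_mul_eq_one_left p.2).symm
    · intro p q e
      have e1 : p.1.1 = q.1.1 := hφ (congrArg Subtype.val e)
      refine Subtype.ext (Prod.ext e1 (hψ ?_))
      have hp : φ p.1.1 * ψ p.1.2 = 1 := p.2
      have hq : φ q.1.1 * ψ q.1.2 = 1 := q.2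
      rw [eq_inv_of_mul_eq_one_right hp, eq_inv_of_mul_eq_one_right hq, e1]
    · rintro ⟨x, ⟨a, rfl⟩, b, hb⟩
      refine ⟨⟨(a, b⁻¹), ?_⟩, rfl⟩
      show φ a * ψ b⁻¹ = 1
      rw [map_inv, hb, mul_inv_cancel]
  have h := μ.ker.index_mul_card
  rw [Subgroup.index_ker, hr, hk, Nat.card_prod] at h
  exact h

/-- The two ranges sit with index two in a centraliser of order `|SL₂|²`. -/
theorem exists_pair [Fintype F] [Finite G] (t : G) (ht : orderOf t = 2)
    (φ ψ : Matrix.SpecialLinearGroup (Fin 2) F →* G) (hφ : Function.Injective φ)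
    (hψ : Function.Injective ψ) (hc : ∀ g h, φ g * ψ h = ψ h * φ g) (eφ : φ (-1) = t)
    (eψ : ψ (-1) = t)
    (hcard : Nat.card (Subgroup.centralizer ({t} : Set G)) =
      Fintype.card F ^ 2 * (Fintype.card F ^ 2 - 1) ^ 2) :
    ∃ L₁ L₂ : Subgroup G, Nonempty (L₁ ≃* Matrix.SpecialLinearGroup (Fin 2) F) ∧
      Nonempty (L₂ ≃* Matrix.SpecialLinearGroup (Fin 2) F) ∧ (∀ x ∈ L₁, ∀ y ∈ L₂, x * y = y * x) ∧
      L₁ ⊓ L₂ = Subgroup.zpowers t ∧ L₁ ⊔ L₂ ≤ Subgroup.centralizer ({t} : Set G) ∧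
      (L₁ ⊔ L₂).relIndex (Subgroup.centralizer ({t} : Set G)) = 2 := by
  have hle : φ.range ⊔ ψ.range ≤ Subgroup.centralizer ({t} : Set G) := by
    refine sup_le ?_ ?_ <;> rintro _ ⟨g, rfl⟩ <;> rw [Subgroup.mem_centralizer_singleton_iff]
    · rw [← eψ]; exact hc g (-1)
    · rw [← eφ]; exact (hc (-1) g).symm
  refine ⟨φ.range, ψ.range, ⟨(MonoidHom.ofInjective hφ).symm⟩, ⟨(MonoidHom.ofInjective hψ).symm⟩, ?_,
    range_inf_range t φ ψ hφ hc eφ eψ, hle, ?_⟩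
  · rintro _ ⟨g, rfl⟩ _ ⟨h, rfl⟩
    exact hc g h
  have h1 := natCard_sup_mul t ht φ ψ hφ hψ hc eφ eψ
  have h2 := ((φ.range ⊔ ψ.range).subgroupOf (Subgroup.centralizer ({t} : Set G))).index_mul_card
  rw [Nat.card_congr (Subgroup.subgroupOfEquivOfLe hle).toEquiv, hcard] at h2
  rw [Linear.card_SL_two] at h1
  refine Nat.eq_of_mul_eq_mul_right Nat.card_pos ?_ (m := Nat.card ↥(φ.range ⊔ ψ.range))
  show (Subgroup.subgroupOf _ _).index * _ = _
  rw [h2, mul_comm 2 _, h1]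
  ring

end CfsgLib.InvOddG2
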