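import Mathlib.Tactic.Ring
import Mathlib.Tactic.Zify
import Mathlib.Tactic.NormNum
import Mathlib.Tactic.Positivity
import Mathlib.Tactic.Linarith
import Mathlib.Algebra.Order.Ring.Nat

/-!
# The polynomial identities for the centraliser orders of `G₂` and `F₄`
-/

set_option autoImplicit false

namespace CfsgLib.InvOddG2

/-- The value of a polynomial given by its coefficients. -/
def evalList : List ℕ → ℕ → ℕ
  | [], _ => 0
  | a :: L, q => a + q * evalList L q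

theorem orderG2 {q : ℕ} (hq : 1 ≤ q) :
    q ^ 2 * ((q - 1) ^ 2 * evalList [1, 2, 1] q) = q ^ 2 * (q ^ 2 - 1) ^ 2 := by
  have := Nat.one_le_pow 2 q hq
  zify [evalList, hq, this]
  ring

theorem orderF4A {q : ℕ} (hq : 1 ≤ q) :
    q ^ 16 * ((q - 1) ^ 4 *
      evalList [1, 4, 9, 16, 24, 32, 39, 44, 46, 44, 39, 32, 24, 16, 9, 4, 1] q) =
      q ^ 16 * (q ^ 2 - 1) * (q ^ 4 - 1) * (q ^ 6 - 1) * (q ^ 8 - 1) := by
  have h2 := Nat.one_le_pow 2 q hq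
  have h4 := Nat.one_le_pow 4 q hq
  have h6 := Nat.one_le_pow 6 q hq
  have h8 := Nat.one_le_pow 8 q hq
  zify [evalList, hq, h2, h4, h6, h8]
  ring

theorem orderF4B {q : ℕ} (hq : 1 ≤ q) :
    q ^ 10 * ((q - 1) ^ 4 * evalList [1, 4, 8, 12, 15, 16, 15, 12, 8, 4, 1] q) =
      q ^ 10 * (q ^ 2 - 1) ^ 2 * (q ^ 4 - 1) * (q ^ 6 - 1) := by
  have h2 := Nat.one_le_pow 2 q hq
  have h4 := Nat.one_le_pow 4 q hq
  have h6 := Nat.one_le_pow 6 q hq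
  zify [evalList, hq, h2, h4, h6]
  ring

/-- The two orders differ. -/
theorem orderF4_ne {q : ℕ} (hq : 2 ≤ q) :
    q ^ 16 * (q ^ 2 - 1) * (q ^ 4 - 1) * (q ^ 6 - 1) * (q ^ 8 - 1) ≠
      q ^ 10 * (q ^ 2 - 1) ^ 2 * (q ^ 4 - 1) * (q ^ 6 - 1) := by
  have hp : ∀ n, 1 ≤ n → 1 ≤ q ^ n - 1 := fun n hn => by
    have := Nat.le_self_pow (by omega : n ≠ 0) q
    omega
  have h26 : q ^ 2 - 1 < q ^ 6 * (q ^ 8 - 1) := by
    have h1 := Nat.pow_le_pow_right (by omega : 1 ≤ q) (by norm_num : 2 ≤ 6)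
    have h2 : q ^ 6 * 1 ≤ q ^ 6 * (q ^ 8 - 1) := Nat.mul_le_mul_left _ (hp 8 (by norm_num))
    have h3 := Nat.one_le_pow 2 q (by omega)
    omega
  refine ne_of_gt ?_
  calc q ^ 10 * (q ^ 2 - 1) ^ 2 * (q ^ 4 - 1) * (q ^ 6 - 1)
      = q ^ 10 * (q ^ 2 - 1) * (q ^ 4 - 1) * (q ^ 6 - 1) * (q ^ 2 - 1) := by ring
    _ < q ^ 10 * (q ^ 2 - 1) * (q ^ 4 - 1) * (q ^ 6 - 1) * (q ^ 6 * (q ^ 8 - 1)) := by
        refine Nat.mul_lt_mul_of_pos_left h26 ?_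
        have := hp 2 (by norm_num)
        have := hp 4 (by norm_num)
        have := hp 6 (by norm_num)
        positivity
    _ = q ^ 16 * (q ^ 2 - 1) * (q ^ 4 - 1) * (q ^ 6 - 1) * (q ^ 8 - 1) := by ring

end CfsgLib.InvOddG2
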