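import Cfsg.Agent.Chevalley.Bruhat
import Cfsg.Agent.ChevTorus.Order

/-!
# The sign elements of the torus up to the Weyl group
-/

set_option autoImplicit false

namespace CfsgLib.InvOddG2

open Cfsg.Lie CfsgLib.Chevalley CfsgLib.ChevTorus
open scoped MatrixGroups

variable {D : ChevalleyDatum} {F : Type*} [Field F]

/-- The exponent of a sign element at a root. -/
def sExp (D : ChevalleyDatum) (e : List ℕ) (r : ℕ) : ℤ :=
  ((List.range D.rank).map fun k => (e.getD k 0 : ℤ) * D.cartan k r).sum % 2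

/-- The sign element with exponents `e`. -/
def sElt (D : ChevalleyDatum) (F : Type*) [Field F] (e : List ℕ) : GL D.Idx F :=
  torC D fun k => (-1 : Fˣ) ^ e.getD k 0

theorem neg_one_zpow_mod (n : ℤ) : (-1 : Fˣ) ^ (n % 2) = (-1) ^ n := by
  conv_rhs => rw [← Int.emod_add_mul_ediv n 2, zpow_add, zpow_mul, zpow_two, neg_one_mul, neg_neg,
    one_zpow, mul_one]

theorem sElt_eq (e : List ℕ) : sElt D F e = tor fun s => (-1 : Fˣ) ^ sExp D e s := by
  rw [sElt, torC]
  congr 1
  funext s
  rw [sExp, neg_one_zpow_mod, ← List.sum_toFinset _ List.nodup_range, List.toFinset_range,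
    ← Fin.sum_univ_eq_sum_range (fun k => (e.getD k 0 : ℤ) * D.cartan k s)]
  simp only [← zpow_natCast (-1 : Fˣ), ← zpow_mul]
  induction (Finset.univ : Finset (Fin D.rank)) using Finset.induction_on with
  | empty => simp
  | insert k S hk ih => rw [Finset.sum_insert hk, Finset.prod_insert hk, zpow_add, ih]

/-- The action of a word of fundamental reflections on root indices. -/
def rWord (D : ChevalleyDatum) (w : List ℕ) (r : ℕ) : ℕ :=
  w.foldl (fun x i => D.reflectRoot i x) r

theorem exists_conj_tor (hW : GoodWeyl D) : ∀ (w : List ℕ), (∀ i ∈ w, i < D.rank) →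
    ∀ χ : Root D → Fˣ, ∃ g ∈ D.group F, ∃ χ' : Root D → Fˣ, g * tor χ * g⁻¹ = tor χ' ∧
      ∀ r : Root D, ∃ s : Root D, (s : ℕ) = rWord D w r ∧ χ' r = χ s
  | [], _, χ => ⟨1, one_mem _, χ, by group, fun r => ⟨r, rfl, rfl⟩⟩
  | i :: w, h, χ => by
    obtain ⟨g, hg, χ', e, hr⟩ := exists_conj_tor hW w (fun j hj => h j (by simp [hj])) χ
    refine ⟨nR hW ⟨i, h i (by simp)⟩ * g, mul_mem (nR_mem_group hW _) hg,
      fun s => χ' (wPerm hW ⟨i, h i (by simp)⟩ s), ?_, fun r => ?_⟩
    · rw [show ∀ n x : GL D.Idx F, n * g * x * (n * g)⁻¹ = n * (g * x * g⁻¹) * n⁻¹ from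
          fun n x => by group, e, tor_mul_nR, mul_inv_cancel_right]
    · obtain ⟨s, hs, es⟩ := hr (wPerm hW ⟨i, h i (by simp)⟩ r)
      exact ⟨s, by rw [hs, hW.wPerm_val]; rfl, es⟩

/-- The word moves one sign element to the other. -/
def chkSign (D : ChevalleyDatum) (e w e' : List ℕ) : Bool :=
  (w.all fun i => decide (i < D.rank)) &&
    (List.range D.nroots).all fun r => decide (sExp D e (rWord D w r) = sExp D e' r)

theorem conj_of_chkSign (hW : GoodWeyl D) {e w e' : List ℕ} (h : chkSign D e w e' = true) :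
    ∃ g ∈ D.group F, g * sElt D F e * g⁻¹ = sElt D F e' := by
  simp only [chkSign, Bool.and_eq_true, List.all_eq_true, decide_eq_true_eq, List.mem_range] at h
  obtain ⟨g, hg, χ, eg, hr⟩ := exists_conj_tor hW w h.1 fun s : Root D => (-1 : Fˣ) ^ sExp D e s
  refine ⟨g, hg, ?_⟩
  rw [sElt_eq, sElt_eq, eg]
  congr 1
  funext r
  obtain ⟨s, hs, es⟩ := hr r
  rw [es, hs, h.2 r r.isLt]

/-- A list of all exponent vectors, each with a word to a representative. -/
def chkOrbits (D : ChevalleyDatum) (tab : List (List ℕ × List ℕ × List ℕ)) : Bool :=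
  ((List.range (2 ^ D.rank)).all fun n => tab.any fun p =>
    decide (p.1 = (List.range D.rank).map fun k => n / 2 ^ k % 2)) &&
  tab.all fun p => chkSign D p.1 p.2.1 p.2.2

theorem exists_code : ∀ (l : ℕ) (b : ℕ → Bool), ∃ n < 2 ^ l,
    ∀ k < l, n / 2 ^ k % 2 = if b k then 1 else 0
  | 0, _ => ⟨0, by simp, fun k hk => absurd hk (by omega)⟩
  | l + 1, b => by
    obtain ⟨n, hn, h⟩ := exists_code l fun k => b (k + 1)
    refine ⟨2 * n + if b 0 then 1 else 0, by split <;> omega, fun k hk => ?_⟩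
    rcases k with _ | k
    · split <;> omega
    · rw [pow_succ', ← Nat.div_div_eq_div_mul, show (2 * n + if b 0 then 1 else 0) / 2 = n by
        split <;> omega]
      exact h k (by omega)

theorem exists_conj_rep (hW : GoodWeyl D) {tab : List (List ℕ × List ℕ × List ℕ)}
    (h : chkOrbits D tab = true) {c : Fin D.rank → Fˣ} (hc : ∀ k, c k * c k = 1) :
    ∃ g ∈ D.group F, ∃ p ∈ tab, g * torC D c * g⁻¹ = sElt D F p.2.2 := by
  classical
  simp only [chkOrbits, Bool.and_eq_true, List.all_eq_true, List.any_eq_true, decide_eq_true_eq,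
    List.mem_range] at h
  obtain ⟨n, hn, hbit⟩ := exists_code D.rank fun k =>
    decide (∃ hk : k < D.rank, c ⟨k, hk⟩ ≠ 1)
  obtain ⟨p, hp, hp1⟩ := h.1 n hn
  obtain ⟨g, hg, eg⟩ := conj_of_chkSign (F := F) hW (h.2 p hp)
  refine ⟨g, hg, p, hp, ?_⟩
  rw [← eg, sElt]
  congr 3
  funext k
  rw [hp1, List.getD_eq_getElem _ _ (by simp), List.getElem_map, List.getElem_range, hbit k k.isLt]
  by_cases hk : c k = 1
  · simp [hk]
  · have : c k = -1 := by
      rcases mul_self_eq_one_iff.1 (show (c k : F) * (c k : F) = 1 by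
        rw [← Units.val_mul, hc, Units.val_one]) with e | e
      · exact absurd (Units.ext e) hk
      · exact Units.ext (by simpa using e)
    simp [hk, this]

theorem sElt_mem (hW : GoodWeyl D) (e : List ℕ) : sElt D F e ∈ D.group F :=
  diag_le_group hW (by rw [diagonalSubgroup_eq_range hW]; exact ⟨_, rfl⟩)

theorem sElt_sq (e : List ℕ) : sElt D F e * sElt D F e = 1 := by
  rw [sElt, torC_mul]
  have : ((fun k : Fin D.rank => (-1 : Fˣ) ^ e.getD k 0) *
      fun k : Fin D.rank => (-1 : Fˣ) ^ e.getD k 0) = 1 := by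
    funext k
    simp [← mul_pow]
  rw [this]
  exact (torHom D F).map_one

theorem sElt_ne_one (h2 : (2 : F) ≠ 0) {e : List ℕ} {r : Root D} (hr : sExp D e r = 1) :
    sElt D F e ≠ 1 := by
  rw [sElt_eq, ← tor_one]
  intro h
  have h1 := congrArg Units.val (congrFun (tor_injective h) r)
  rw [hr, zpow_one, Units.val_neg, Units.val_one] at h1
  exact h2 (by linear_combination -h1)

theorem torC_injective [Fintype F] (hW : GoodWeyl D)
    {P P' Q Q' : Matrix (Fin D.rank) (Fin D.rank) ℤ}
    (h : P * P' = 1 ∧ P' * P = 1 ∧ Q * Q' = 1 ∧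
      P * cartanMat D * Q = Matrix.diagonal fun _ => ((1 : ℕ) : ℤ)) :
    Function.Injective (torHom D F) := by
  classical
  have h1 := card_diagonalSubgroup (F := F) hW (d := fun _ => 1) h
  simp only [Nat.gcd_one_right, Finset.prod_const_one, one_mul] at h1
  rw [diagonalSubgroup_eq_range hW] at h1
  have h2 := (torHom D F).ker.index_mul_card
  rw [Subgroup.index_ker, h1, Nat.card_pi] at h2
  simp only [Nat.card_units, Finset.prod_const, Finset.card_univ, Fintype.card_fin,
    Nat.card_eq_fintype_card (α := F)] at h2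
  rw [← MonoidHom.ker_eq_bot_iff, Subgroup.eq_bot_iff_card]
  have h3 : 0 < (Fintype.card F - 1) ^ D.rank :=
    pow_pos (by have := Fintype.one_lt_card (α := F); omega) _
  exact Nat.eq_of_mul_eq_mul_left h3 (h2.trans (mul_one _).symm)

/-- A diagonal element of square one is conjugate to a representative. -/
theorem exists_conj_rep_of_diag [Fintype F] (hW : GoodWeyl D) (hinj : Function.Injective (torHom D F))
    {tab : List (List ℕ × List ℕ × List ℕ)} (h : chkOrbits D tab = true) {t : GL D.Idx F}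
    (ht : t ∈ D.diagonalSubgroup F) (h2 : t * t = 1) :
    ∃ g ∈ D.group F, ∃ p ∈ tab, g * t * g⁻¹ = sElt D F p.2.2 := by
  rw [diagonalSubgroup_eq_range hW] at ht
  obtain ⟨c, rfl⟩ := ht
  refine exists_conj_rep hW h fun k => ?_
  rw [← map_mul, ← (torHom D F).map_one] at h2
  exact congrFun (hinj h2) k

end CfsgLib.InvOddG2
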